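import Groth.Agent.EtPBC.CurveFinDev
import Groth.Agent.EtMV.ConstUnit
import Groth.Agent.EtMV.HenselVanish
import Groth.Agent.EtExtCons.QF
import Groth.Agent.EtPushStalk.ShriekBC
import Groth.Agent.EtPushStalk.OpenImm
import Groth.Agent.EtCons.NoethCons
import Groth.Agent.EtCons.PushFinite
import Groth.Agent.EtPBC.GenPic
import Groth.Agent.EtPBC.ShDim
import Groth.Agent.Weighting.IntegralLevels
import Groth.Agent.S0143
import Groth.Prelude.Def_Found
import Mathlib

/-!
Direct images of constructible sheaves along quasi-finite morphisms to schemes with universally Japanese affine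
coordinate rings.
-/

set_option autoImplicit false
set_option backward.isDefEq.respectTransparency false
set_option backward.isDefEq.respectTransparency.types false
set_option linter.style.haveILetI false
set_option linter.unusedSectionVars false
set_option linter.auxLemma false
set_option maxHeartbeats 1000000

universe u

open CategoryTheory CategoryTheory.Limits AlgebraicGeometry Opposite TopologicalSpace

noncomputable section

namespace Groth.Agent.EtQFPush

open Groth.Agent.EtPBC

/-- universally Japanese rings are stable under isomorphism -/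
theorem isUniversallyJapanese_of_equiv {R R' : Type u} [CommRing R] [CommRing R'] (e : R ≃+* R')
    (h : CAlg.IsUniversallyJapanese R) : CAlg.IsUniversallyJapanese R' := by
  intro S _ _ algS hft
  letI : Algebra R S := ((algebraMap R' S).comp e.toRingHom).toAlgebra
  refine h S (RingHom.finiteType_algebraMap.1 ?_)
  exact (RingHom.finiteType_algebraMap.2 hft).comp (RingHom.FiniteType.of_surjective _ e.surjective)

variable {X : Scheme.{u}}

/-- finite integral normal schemes over a point of a finite scheme -/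
theorem exists_normal_over [IsAffine X] (hX : CAlg.IsUniversallyJapanese Γ(X, ⊤)) {T : Scheme.{u}} [IsAffine T]
    (π : T ⟶ X) [IsFinite π] (t : T) :
    ∃ (T' : Scheme.{u}) (_ : IsIntegral T') (ν : T' ⟶ T), IsFinite ν ∧
      (∀ x : T', IsIntegrallyClosed (T'.presheaf.stalk x)) ∧ ν (genericPoint T') = t := by
  letI : Algebra Γ(X, ⊤) Γ(T, ⊤) := π.appTop.hom.toAlgebra
  haveI : Module.Finite Γ(X, ⊤) Γ(T, ⊤) :=
    RingHom.finite_algebraMap.1 (HasAffineProperty.iff_of_isAffine.1 (inferInstance : IsFinite π)).2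
  let P : Ideal Γ(T, ⊤) := (T.isoSpec.hom t).asIdeal
  haveI : P.IsPrime := (T.isoSpec.hom t).isPrime
  let C : Type u := Γ(T, ⊤) ⧸ P
  haveI : Module.Finite C (integralClosure C (FractionRing C)) :=
    (hX C inferInstance) (FractionRing C) inferInstance
  let C' : Type u := integralClosure C (FractionRing C)
  haveI : Algebra.IsAlgebraic C (FractionRing C) := isAlgebraic_of_localization (nonZeroDivisors C)
  haveI : IsFractionRing C' (FractionRing C) :=
    integralClosure.isFractionRing_of_algebraic (A := C) (L := FractionRing C)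
      (fun x hx => IsFractionRing.injective C (FractionRing C) (hx.trans (map_zero _).symm))
  haveI : IsIntegrallyClosed C' :=
    (isIntegrallyClosed_iff (FractionRing C)).2 fun {x} hx => ⟨⟨x, isIntegral_trans x hx⟩, rfl⟩
  let φ : Γ(T, ⊤) →+* C' := (algebraMap C C').comp (Ideal.Quotient.mk P)
  have hφ : φ.Finite := (RingHom.finite_algebraMap.2 inferInstance).comp
    (RingHom.Finite.of_surjective _ Ideal.Quotient.mk_surjective)
  have hker : RingHom.ker φ = P := by
    refine le_antisymm (fun a ha => Ideal.Quotient.eq_zero_iff_mem.1 ?_) fun a ha => ?_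
    · apply IsFractionRing.injective C (FractionRing C)
      rw [map_zero]
      exact congrArg Subtype.val (show φ a = 0 from ha)
    · show φ a = 0
      show algebraMap C C' (Ideal.Quotient.mk P a) = 0
      exact (congrArg (algebraMap C C') (Ideal.Quotient.eq_zero_iff_mem.2 ha : (Ideal.Quotient.mk P a : C) = 0)).trans
        (map_zero _)
  haveI : IsFinite (Spec.map (CommRingCat.ofHom φ)) := IsFinite.SpecMap_iff _ |>.2 hφ
  refine ⟨Spec (CommRingCat.of C'), inferInstance, Spec.map (CommRingCat.ofHom φ) ≫ T.isoSpec.inv, inferInstance,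
    fun x => ?_, ?_⟩
  · haveI : IsIntegrallyClosed (Localization.AtPrime x.asIdeal) :=
      isIntegrallyClosed_of_isLocalization (Localization.AtPrime x.asIdeal) x.asIdeal.primeCompl
        x.asIdeal.primeCompl_le_nonZeroDivisors
    exact IsIntegrallyClosed.of_equiv
      (Spec.stalkIso (CommRingCat.of C') x).commRingCatIsoToRingEquiv.symm
  · rw [Scheme.Hom.comp_apply, genericPoint_eq_bot_of_affine]
    have h : Spec.map (CommRingCat.ofHom φ) (⊥ : PrimeSpectrum C') = T.isoSpec.hom t := by
      refine PrimeSpectrum.ext ?_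
      show Ideal.comap φ ⊥ = P
      rw [← RingHom.ker_eq_comap_bot, hker]
    rw [h]
    exact congrArg (fun m : T ⟶ T => m t) T.isoSpec.hom_inv_id

/-- inverse images detect the unit on stalks -/
theorem injective_stalk_unit {Z : Scheme.{u}} (f : Z ⟶ X) (G : EtCoh.Ab X) {Ω : Type u} [Field Ω] [IsSepClosed Ω]
    (ξ : Spec (CommRingCat.of Ω) ⟶ Z) :
    Function.Injective ((EtCoh.stalk (ξ ≫ f)).map ((EtCoh.pullPushAdj f).unit.app G)) := by
  let η := (EtCoh.pullPushAdj f).unit.app G
  haveI : IsSplitMono ((EtCoh.pull f).map η) :=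
    ⟨⟨⟨_, (EtCoh.pullPushAdj f).left_triangle_components G⟩⟩⟩
  have hm : Mono ((EtCoh.pull f ⋙ EtCoh.stalk ξ).map η) := by
    show Mono ((EtCoh.stalk ξ).map ((EtCoh.pull f).map η))
    infer_instance
  have : Mono ((EtCoh.stalk (ξ ≫ f)).map η) := by
    rw [← NatIso.naturality_2 (EtStalk.stalkPullIso f ξ) η]
    infer_instance
  exact (AddCommGrpCat.mono_iff_injective _).1 this

/-- jointly surjective families give monomorphisms -/
theorem mono_lift_unit {m : ℕ} (Z : Fin m → Scheme.{u}) (f : ∀ i, Z i ⟶ X) (G : EtCoh.Ab X)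
    (hcov : ∀ x, ∃ i z, f i z = x) :
    Mono (biproduct.lift fun i => (EtCoh.pullPushAdj (f i)).unit.app G :
      G ⟶ ⨁ fun i => (EtCoh.push (f i)).obj ((EtCoh.pull (f i)).obj G)) := by
  refine Preadditive.mono_of_isZero_kernel _ (isZero_of_zeroAt _ fun x => ?_)
  obtain ⟨i, z, hz⟩ := hcov x
  let ψ := (biproduct.lift fun i => (EtCoh.pullPushAdj (f i)).unit.app G :
      G ⟶ ⨁ fun i => (EtCoh.push (f i)).obj ((EtCoh.pull (f i)).obj G))
  obtain ⟨Ω, _, _, ξ, hξ⟩ := exists_geomPt z
  have hξx : (ξ ≫ f i) (default : Spec (CommRingCat.of Ω)) = x := by rw [Scheme.Hom.comp_apply, hξ, hz]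
  rw [← isZero_stalk_iff_zeroAt hξx]
  have h0 : kernel.ι ψ ≫ (EtCoh.pullPushAdj (f i)).unit.app G = 0 := by
    rw [← biproduct.lift_π (fun i => (EtCoh.pullPushAdj (f i)).unit.app G) i, ← Category.assoc]
    exact (congrArg (· ≫ biproduct.π _ i) (kernel.condition ψ)).trans zero_comp
  haveI : Mono ((EtCoh.stalk (ξ ≫ f i)).map ((EtCoh.pullPushAdj (f i)).unit.app G)) :=
    (AddCommGrpCat.mono_iff_injective _).2 (injective_stalk_unit (f i) G ξ)
  refine IsZero.of_mono_eq_zero ((EtCoh.stalk (ξ ≫ f i)).map (kernel.ι ψ)) ?_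
  rw [← cancel_mono ((EtCoh.stalk (ξ ≫ f i)).map ((EtCoh.pullPushAdj (f i)).unit.app G)), ← Functor.map_comp, h0,
    zero_comp]
  haveI : (EtCoh.stalk (ξ ≫ f i)).Additive := Functor.additive_of_preserves_binary_products _
  exact Functor.map_zero _ _ _

/-- direct images of constant sheaves along quasi-finite morphisms of affine schemes -/
theorem isConstructible_push_const [IsAffine X] [IsNoetherian X] (hX : CAlg.IsUniversallyJapanese Γ(X, ⊤))
    {Y : Scheme.{u}} [IsAffine Y] (q : Y ⟶ X) [LocallyQuasiFinite q] [LocallyOfFiniteType q] (M : Type)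
    [AddCommGroup M] [Finite M] : EtPBC.IsConstructible ((EtCoh.push q).obj (EtCoh.const Y M)) := by
  classical
  haveI : LocallyOfFinitePresentation q := EtExtCons.lfp_of_lft q
  haveI : IsLocallyNoetherian Y := LocallyOfFiniteType.isLocallyNoetherian q
  haveI : IsNoetherian Y := {}
  obtain ⟨T, _, j, π, hj, hπ, -, rfl⟩ := Weighting.exists_finite_factorization q
  have hfin := finite_isMaxPt Y
  let m := hfin.toFinset.card
  let η : Fin m → Y := fun i => (hfin.toFinset.equivFin.symm i).1
  choose T' hT' ν hν hN hgen using fun i => exists_normal_over hX π (j (η i))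
  let V : Fin m → Scheme.{u} := fun i => pullback (ν i) j
  let a : ∀ i, V i ⟶ T' i := fun i => pullback.fst (ν i) j
  let g : ∀ i, V i ⟶ Y := fun i => pullback.snd (ν i) j
  have hcov : ∀ y, ∃ i z, g i z = y := fun y => by
    obtain ⟨e, he, hey⟩ := exists_isMaxPt y
    let i := hfin.toFinset.equivFin ⟨e, hfin.mem_toFinset.2 he⟩
    haveI := hν i
    have hi : η i = e := by simp [η, i]
    have hcl : IsClosed (Set.range (ν i)) := (ν i).isClosedMap.isClosed_range
    have hs : j y ∈ Set.range (ν i) := (hey.map j.continuous).mem_closed hcl ⟨_, (hgen i).trans (by rw [hi])⟩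
    obtain ⟨t', ht'⟩ := hs
    obtain ⟨z, -, hz⟩ := Scheme.Pullback.exists_preimage_pullback t' y ht'
    exact ⟨i, z, hz⟩
  haveI := mono_lift_unit V g (EtCoh.const Y M) hcov
  haveI : PreservesFiniteLimits (EtCoh.push (j ≫ π)) :=
    haveI : (EtCoh.push (j ≫ π)).IsRightAdjoint := (EtCoh.pullPushAdj (j ≫ π)).isRightAdjoint
    inferInstance
  let A : Fin m → EtCoh.Ab X := fun i =>
    (EtCoh.push (j ≫ π)).obj ((EtCoh.push (g i)).obj ((EtCoh.pull (g i)).obj (EtCoh.const Y M)))
  have hA : EtPBC.IsConstructible (⨁ A) := EtCons.isConstructible_biproduct A fun i => by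
    haveI := hν i
    haveI := hT' i
    haveI : Nonempty (V i) :=
      ⟨(Scheme.Pullback.exists_preimage_pullback (genericPoint (T' i)) (η i) (hgen i)).choose⟩
    haveI : IsIntegral (V i) := isIntegral_of_isOpenImmersion (a i)
    haveI : IsLocallyNoetherian (T' i) := LocallyOfFiniteType.isLocallyNoetherian (ν i ≫ π)
    haveI : LocallyOfFinitePresentation (ν i ≫ π) := EtExtCons.lfp_of_lft (ν i ≫ π)
    haveI := EtMV.isIso_unit_const (M := M) (EtMV.irrNhd_of_normal (hN i)) (a i)
      (genericPoint_eq_of_isOpenImmersion (a i))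
    let e₁ : (EtCoh.push (a i)).obj (EtCoh.const (V i) M) ≅ EtCoh.const (T' i) M :=
      (EtCoh.push (a i)).mapIso (EtCons.pullConstM (a i) M).symm ≪≫
        (asIso ((EtCoh.pullPushAdj (a i)).unit.app (EtCoh.const (T' i) M))).symm
    refine EtCons.isConstructible_of_iso (Iso.symm ?_)
      (EtCons.isConstructible_push (ν i ≫ π) (EtCons.isConstructible_const (W := T' i) M))
    exact (EtCoh.push (j ≫ π)).mapIso ((EtCoh.push (g i)).mapIso (EtCons.pullConstM (g i) M)) ≪≫
      (EtCoh.pushComp (j ≫ π) (g i)).app _ ≪≫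
      (EtCoh.pushCongr (show g i ≫ j ≫ π = a i ≫ ν i ≫ π by
        simp only [a, g, pullback.condition_assoc])).app _ ≪≫
      ((EtCoh.pushComp (ν i ≫ π) (a i)).app _).symm ≪≫ (EtCoh.push (ν i ≫ π)).mapIso e₁
  let ψ : EtCoh.const Y M ⟶ ⨁ fun i => (EtCoh.push (g i)).obj ((EtCoh.pull (g i)).obj (EtCoh.const Y M)) :=
    biproduct.lift fun i => (EtCoh.pullPushAdj (g i)).unit.app (EtCoh.const Y M)
  haveI : Mono ψ := ‹Mono (biproduct.lift fun i => (EtCoh.pullPushAdj (g i)).unit.app (EtCoh.const Y M))›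
  haveI : Mono ((EtCoh.push (j ≫ π)).map ψ) := inferInstance
  let e : (EtCoh.push (j ≫ π)).obj (⨁ fun i => (EtCoh.push (g i)).obj ((EtCoh.pull (g i)).obj (EtCoh.const Y M))) ≅ ⨁ A :=
    (EtCoh.push (j ≫ π)).mapBiproduct _
  haveI : Mono ((EtCoh.push (j ≫ π)).map ψ ≫ e.hom) := mono_comp _ _
  exact EtCons.isConstructible_sub ((EtCoh.push (j ≫ π)).map ψ ≫ e.hom) hA

/-- affine source and target -/
theorem isConstructible_push_affine [IsAffine X] [IsNoetherian X] (hX : CAlg.IsUniversallyJapanese Γ(X, ⊤))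
    {Y : Scheme.{u}} [IsAffine Y] (q : Y ⟶ X) [LocallyQuasiFinite q] [LocallyOfFiniteType q] {F : EtCoh.Ab Y}
    (hF : EtPBC.IsConstructible F) : EtPBC.IsConstructible ((EtCoh.push q).obj F) := by
  haveI : IsLocallyNoetherian Y := LocallyOfFiniteType.isLocallyNoetherian q
  haveI : IsNoetherian Y := {}
  obtain ⟨m, Z, f, hf, M, iM, fM, h⟩ := Groth.Agent.S0143.result Y F hF
  obtain ⟨ι, hι⟩ := h
  haveI := hι
  haveI : PreservesFiniteLimits (EtCoh.push q) :=
    haveI : (EtCoh.push q).IsRightAdjoint := (EtCoh.pullPushAdj q).isRightAdjoint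
    inferInstance
  have hA : EtPBC.IsConstructible
      (⨁ fun i => (EtCoh.push q).obj ((EtCoh.push (f i)).obj (EtCoh.const (Z i) (M i)))) :=
    EtCons.isConstructible_biproduct _ fun i => by
      haveI := hf i
      haveI : IsAffine (Z i) := isAffine_of_isAffineHom (f i)
      exact EtCons.isConstructible_of_iso ((EtCoh.pushComp q (f i)).app _).symm
        (isConstructible_push_const hX (f i ≫ q) (M i))
  exact EtCons.isConstructible_sub ((EtCoh.push q).map ι ≫ ((EtCoh.push q).mapBiproduct _).hom) hA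

/-- affine target -/
theorem isConstructible_push_affineBase [IsAffine X] [IsNoetherian X] (hX : CAlg.IsUniversallyJapanese Γ(X, ⊤))
    {Y : Scheme.{u}} (q : Y ⟶ X) [LocallyQuasiFinite q] [LocallyOfFiniteType q] [QuasiCompact q] {F : EtCoh.Ab Y}
    (hF : EtPBC.IsConstructible F) : EtPBC.IsConstructible ((EtCoh.push q).obj F) := by
  classical
  haveI : CompactSpace Y := QuasiCompact.compactSpace_of_compactSpace q
  choose O hO hmem _ using fun y : Y => EtCons.exists_affine_le (V := (⊤ : Y.Opens)) (x := y) trivial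
  obtain ⟨s, hs⟩ := isCompact_univ.elim_finite_subcover (fun y => ((O y : Y.Opens) : Set Y))
    (fun y => (O y).isOpen) fun y _ => Set.mem_iUnion.2 ⟨y, hmem y⟩
  let m := s.card
  let U : Fin m → Y.Opens := fun i => O (s.equivFin.symm i).1
  have hcov : ∀ y, ∃ i z, (U i).ι z = y := fun y => by
    obtain ⟨y₀, hy₀, hy⟩ := Set.mem_iUnion₂.1 (hs (Set.mem_univ y))
    have hU : U (s.equivFin ⟨y₀, hy₀⟩) = O y₀ := by simp [U]
    exact ⟨s.equivFin ⟨y₀, hy₀⟩, ⟨y, hU ▸ hy⟩, rfl⟩
  haveI := mono_lift_unit (fun i => (U i).toScheme) (fun i => (U i).ι) F hcov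
  haveI : PreservesFiniteLimits (EtCoh.push q) :=
    haveI : (EtCoh.push q).IsRightAdjoint := (EtCoh.pullPushAdj q).isRightAdjoint
    inferInstance
  let A : Fin m → EtCoh.Ab X := fun i => (EtCoh.push q).obj ((EtCoh.push (U i).ι).obj ((EtCoh.pull (U i).ι).obj F))
  have hA : EtPBC.IsConstructible (⨁ A) := EtCons.isConstructible_biproduct A fun i => by
    haveI : IsAffine (U i).toScheme := hO _
    exact EtCons.isConstructible_of_iso ((EtCoh.pushComp q (U i).ι).app _).symm
      (isConstructible_push_affine hX ((U i).ι ≫ q) (EtCons.isConstructible_pull _ hF))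
  let ψ : F ⟶ ⨁ fun i => (EtCoh.push (U i).ι).obj ((EtCoh.pull (U i).ι).obj F) :=
    biproduct.lift fun i => (EtCoh.pullPushAdj (U i).ι).unit.app F
  haveI : Mono ψ := ‹Mono (biproduct.lift fun i => (EtCoh.pullPushAdj (U i).ι).unit.app F)›
  haveI : Mono ((EtCoh.push q).map ψ) := inferInstance
  let e : (EtCoh.push q).obj (⨁ fun i => (EtCoh.push (U i).ι).obj ((EtCoh.pull (U i).ι).obj F)) ≅ ⨁ A :=
    (EtCoh.push q).mapBiproduct _
  haveI : Mono ((EtCoh.push q).map ψ ≫ e.hom) := mono_comp _ _
  exact EtCons.isConstructible_sub ((EtCoh.push q).map ψ ≫ e.hom) hA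

/-- **quasi-finite morphisms over universally Japanese bases** -/
theorem isConstructible_push_qf [IsNoetherian X]
    (hX : ∀ U : X.Opens, IsAffineOpen U → CAlg.IsUniversallyJapanese Γ(X, U)) {Y : Scheme.{u}} (q : Y ⟶ X)
    [LocallyQuasiFinite q] [LocallyOfFiniteType q] [QuasiCompact q] {F : EtCoh.Ab Y}
    (hF : EtPBC.IsConstructible F) : EtPBC.IsConstructible ((EtCoh.push q).obj F) := by
  choose O hO hmem _ using fun x : X => EtCons.exists_affine_le (V := (⊤ : X.Opens)) (x := x) trivial
  refine EtCons.isConstructible_of_openCover _ O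
    (top_le_iff.1 fun x _ => Opens.mem_iSup.2 ⟨x, hmem x⟩) fun x => ?_
  let V := O x
  haveI : IsAffine V.toScheme := hO x
  haveI : IsLocallyNoetherian V.toScheme := LocallyOfFiniteType.isLocallyNoetherian V.ι
  haveI : IsNoetherian V.toScheme := {}
  haveI := EtMV.jcont_etale V.ι
  haveI := EtMV.jcont_etale (q ⁻¹ᵁ V).ι
  have hV : CAlg.IsUniversallyJapanese Γ(V.toScheme, ⊤) :=
    isUniversallyJapanese_of_equiv V.topIso.symm.commRingCatIsoToRingEquiv (hX V (hO x))
  let e : EtCoh.push q ⋙ EtCoh.pull V.ι ≅ EtCoh.pull (q ⁻¹ᵁ V).ι ⋙ EtCoh.push (q ∣_ V) :=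
    Functor.isoWhiskerLeft _ (EtPushStalk.restrPullIso V.ι).symm ≪≫
      (EtPushStalk.restrPushIso V.ι q (q ⁻¹ᵁ V).ι (q ∣_ V) (isPullback_morphismRestrict q V).flip).symm ≪≫
      Functor.isoWhiskerRight (EtPushStalk.restrPullIso (q ⁻¹ᵁ V).ι) _
  exact EtCons.isConstructible_of_iso (e.app F).symm
    (isConstructible_push_affineBase hV (q ∣_ V) (EtCons.isConstructible_pull _ hF))

end Groth.Agent.EtQFPush

end
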